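import Mathlib
import Groth.Prelude.Def_AlgSt4
import Groth.Prelude.Def_W4c2isonaturalstkIso
import Groth.Agent.Lib.Helper2.AlgSt.Pts.Rel
import Groth.Agent.Lib.Helper2.AlgSt.Pts.Chart
import Groth.Agent.Lib.Helper2.FibGrpd

/-!
# The presheaf of isomorphism classes: basic lemmas (helper2)
-/

set_option autoImplicit false
open CategoryTheory CategoryTheory.Functor CategoryTheory.Limits AlgebraicGeometry Opposite

universe u

namespace Groth.Agent.Helper2.IsoNatLib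

open Groth.Agent.Helper2 Groth.Agent.Helper2.AlgStLib.Pts

variable {S : Scheme.{u}} {𝒳 𝒴 : AlgSt.Cat S}

theorem cls_eq_iff {T : Over S} (a b : 𝒳.p.Fiber T) :
    IsoNat.cls a = IsoNat.cls b ↔ Nonempty (a ≅ b) :=
  ⟨fun h => Quotient.exact h, fun h => Quotient.sound h⟩

theorem exists_rep {T : Over S} (c : IsoNat.IsoCl 𝒳 T) : ∃ a : 𝒳.p.Fiber T, IsoNat.cls a = c :=
  Quotient.exists_rep c

theorem mapCls_cls (f : 𝒳 ⥤ᵇ 𝒴) {T : Over S} (a : 𝒳.p.Fiber T) :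
    IsoNat.mapCls f T (IsoNat.cls a) =
      IsoNat.cls (⟨f.obj a.1, (f.w_obj a.1).trans a.2⟩ : 𝒴.p.Fiber T) := rfl

/-- Isomorphic objects of a fibre define the same class; in a category fibred in groupoids a
morphism over the identity suffices. -/
theorem cls_eq_of_hom (h𝒳 : FibCat.IsFibGrpd 𝒳.p) {T : Over S} {a b : 𝒳.p.Fiber T}
    (φ : a.1 ⟶ b.1) (hφ : 𝒳.p.IsHomLift (𝟙 T) φ) : IsoNat.cls a = IsoNat.cls b := by
  haveI := hφ
  haveI : IsIso φ := IsFibGrpd.isIso_of_isHomLift_id 𝒳.p h𝒳 (S := T) φ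
  have hφ' : 𝒳.p.IsHomLift (𝟙 T) (inv φ) := IsHomLift.lift_id_inv_isIso _ _ _
  exact (cls_eq_iff a b).2 ⟨⟨⟨φ, hφ⟩, ⟨inv φ, hφ'⟩, Subtype.ext (IsIso.hom_inv_id φ),
    Subtype.ext (IsIso.inv_hom_id φ)⟩⟩

theorem exists_hom_of_cls_eq {T : Over S} {a b : 𝒳.p.Fiber T}
    (h : IsoNat.cls a = IsoNat.cls b) : ∃ φ : a.1 ⟶ b.1, 𝒳.p.IsHomLift (𝟙 T) φ := by
  obtain ⟨e⟩ := (cls_eq_iff a b).1 h
  exact ⟨e.hom.1, e.hom.2⟩

/-- The field-valued point attached to an object of the fibre over the spectrum of a field. -/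
def fpt {K : Type u} [Field K] (str : Spec (CommRingCat.of K) ⟶ S)
    (a : 𝒳.p.Fiber (Over.mk str)) : AlgSt.FPt 𝒳 :=
  { K := K, str := str, obj := a.1, lies := a.2 }

theorem mk_fpt_eq_of_cls_eq {K : Type u} [Field K] (str : Spec (CommRingCat.of K) ⟶ S)
    {a b : 𝒳.p.Fiber (Over.mk str)} (h : IsoNat.cls a = IsoNat.cls b) :
    AlgSt.Points.mk (fpt str a) = AlgSt.Points.mk (fpt str b) := by
  obtain ⟨φ, -⟩ := exists_hom_of_cls_eq h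
  exact mk_eq_of_hom (p := fpt str a) (q := fpt str b) φ

/-- Pulling back an object along the base morphism of a morphism into its image: if
`α : r ⟶ f x` lies over `g`, there is `x'` over the source of `g` with a morphism to `x` and
`r ≅ f x'` in the fibre. -/
theorem exists_pullback_of_hom_map (h𝒳 : FibCat.IsFibGrpd 𝒳.p) (h𝒴 : FibCat.IsFibGrpd 𝒴.p)
    (f : 𝒳 ⥤ᵇ 𝒴) {R Q : Over S} (x : 𝒳.obj) (hx : 𝒳.p.obj x = Q) (r : 𝒴.obj)
    (hr : 𝒴.p.obj r = R) (α : r ⟶ f.obj x) :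
    ∃ (x' : 𝒳.obj) (hx' : 𝒳.p.obj x' = R) (_ : x' ⟶ x),
      IsoNat.cls (⟨r, hr⟩ : 𝒴.p.Fiber R) =
        IsoNat.cls (⟨f.obj x', (f.w_obj x').trans hx'⟩ : 𝒴.p.Fiber R) := by
  obtain ⟨g, hg⟩ := exists_base α hr ((f.w_obj x).trans hx)
  obtain ⟨x', ψ, hψ⟩ := IsFibGrpd.exists_lift_of_eq 𝒳.p h𝒳 hx g
  have hx' : 𝒳.p.obj x' = R := IsHomLift.domain_eq 𝒳.p g ψ
  haveI : 𝒴.p.IsHomLift g (f.map ψ) := BasedFunctor.preserves_isHomLift f g ψ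
  haveI := hg
  obtain ⟨χ, ⟨hχ, -⟩, -⟩ := IsFibGrpd.existsUnique 𝒴.p h𝒴 (𝟙 R) g g (Category.id_comp _).symm
    (f.map ψ) α
  exact ⟨x', hx', ψ, cls_eq_of_hom h𝒴 (a := ⟨r, hr⟩) (b := ⟨f.obj x', _⟩) χ hχ⟩

end Groth.Agent.Helper2.IsoNatLib
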