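import Mathlib
import Groth.Agent.Lib.Helper2.IsoNat.Basic
import Groth.Agent.Lib.Helper2.AlgSt.Pts.QC
import Groth.Agent.Lib.Helper2.FibCat.Yoneda

/-!
# The map on points induced by an isomorphism of presheaves of isomorphism classes (helper2)
-/

set_option autoImplicit false
open CategoryTheory CategoryTheory.Functor CategoryTheory.Limits AlgebraicGeometry Opposite

universe u

namespace Groth.Agent.Helper2.IsoNatLib

open Groth.Agent.Helper2 Groth.Agent.Helper2.FibCatLib Groth.Agent.Helper2.AlgStLib.Pts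

variable {S : Scheme.{u}} {𝒳 𝒴 : AlgSt.Cat S} (φ : IsoNat.FIso 𝒳 𝒴)

/-- The bijections of an `FIso` commute with arbitrary pullbacks. -/
theorem fiso_pullback (h𝒴 : FibCat.IsFibGrpd 𝒴.p) {T' T : Over S} (g : T' ⟶ T)
    (x' : 𝒳.p.Fiber T') (x : 𝒳.p.Fiber T) (a : x'.1 ⟶ x.1) (ha : 𝒳.p.IsHomLift g a)
    (y' : 𝒴.p.Fiber T') (y : 𝒴.p.Fiber T) (b : y'.1 ⟶ y.1) (hb : 𝒴.p.IsHomLift g b)
    (hxy : φ.toEquiv T (IsoNat.cls x) = IsoNat.cls y) :
    φ.toEquiv T' (IsoNat.cls x') = IsoNat.cls y' := by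
  obtain ⟨z', z, c, hc, h1, h2⟩ := φ.natural g x' x a ha
  rw [h1]
  obtain ⟨e, he⟩ := exists_hom_of_cls_eq (h2.symm.trans hxy)
  haveI := hc
  haveI := he
  haveI := hb
  have hce : 𝒴.p.IsHomLift g (c ≫ e) :=
    isHomLift_congr' 𝒴.p (Category.comp_id g) _ (inferInstance : 𝒴.p.IsHomLift (g ≫ 𝟙 T) (c ≫ e))
  haveI := hce
  obtain ⟨χ, ⟨hχ, -⟩, -⟩ := IsFibGrpd.existsUnique 𝒴.p h𝒴 (𝟙 T') g g (Category.id_comp _).symm
    b (c ≫ e)
  exact cls_eq_of_hom h𝒴 χ hχ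

/-- The image of a field-valued point. -/
noncomputable def ptMap (p : AlgSt.FPt 𝒳) : AlgSt.Points 𝒴 :=
  AlgSt.Points.mk (fpt p.str
    (Quotient.out (φ.toEquiv (Over.mk p.str) (IsoNat.cls (⟨p.obj, p.lies⟩ :
      𝒳.p.Fiber (Over.mk p.str))))))

theorem ptMap_eq (p : AlgSt.FPt 𝒳) (B : 𝒴.p.Fiber (Over.mk p.str))
    (hB : φ.toEquiv (Over.mk p.str) (IsoNat.cls (⟨p.obj, p.lies⟩ : 𝒳.p.Fiber (Over.mk p.str))) =
      IsoNat.cls B) : ptMap φ p = AlgSt.Points.mk (fpt p.str B) := by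
  apply mk_fpt_eq_of_cls_eq
  rw [← hB]
  exact Quotient.out_eq _

theorem ptMap_eq_of_hom {p q : AlgSt.FPt 𝒳} (a : p.obj ⟶ q.obj) : ptMap φ p = ptMap φ q := by
  obtain ⟨g, hg⟩ := exists_base a p.lies q.lies
  obtain ⟨y', y, b, hb, h1, h2⟩ := φ.natural g ⟨p.obj, p.lies⟩ ⟨q.obj, q.lies⟩ a hg
  rw [ptMap_eq φ p y' h1, ptMap_eq φ q y h2]
  exact mk_eq_of_hom (p := fpt p.str y') (q := fpt q.str y) b

/-- The map on spaces of points induced by an isomorphism of presheaves of isomorphism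
classes. -/
noncomputable def ptsMap : AlgSt.Points 𝒳 → AlgSt.Points 𝒴 :=
  Quot.lift (ptMap φ) (fun p q h => by
    obtain ⟨r, a, b, -⟩ := h
    exact (ptMap_eq_of_hom φ a).symm.trans (ptMap_eq_of_hom φ b))

theorem ptsMap_mk (p : AlgSt.FPt 𝒳) : ptsMap φ (AlgSt.Points.mk p) = ptMap φ p := rfl

theorem ptsMap_surjective : Function.Surjective (ptsMap φ) := by
  intro q
  obtain ⟨q, rfl⟩ := AlgSt.Points.mk_surjective q
  obtain ⟨A, hA⟩ := exists_rep ((φ.toEquiv (Over.mk q.str)).symm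
    (IsoNat.cls (⟨q.obj, q.lies⟩ : 𝒴.p.Fiber (Over.mk q.str))))
  refine ⟨AlgSt.Points.mk (fpt q.str A), ?_⟩
  rw [ptsMap_mk, ptMap_eq φ (fpt q.str A) ⟨q.obj, q.lies⟩ ?_]
  · rfl
  · change φ.toEquiv (Over.mk q.str) (IsoNat.cls A) = _
    rw [hA]
    exact Equiv.apply_symm_apply _ _

/-- Compatibility with charts: if the classes of the universal objects of two charts
correspond, then so do their maps to the spaces of points. -/
theorem ptsMap_ofChart (h𝒴 : FibCat.IsFibGrpd 𝒴.p) {U : Over S} (x : FibCat.overCat U ⥤ᵇ 𝒳)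
    (y : FibCat.overCat U ⥤ᵇ 𝒴)
    (hxy : φ.toEquiv U (IsoNat.objCls x) = IsoNat.objCls y) (u : ↥U.left) :
    ptsMap φ (AlgSt.Points.ofChart x u) = AlgSt.Points.ofChart y u := by
  let A : Over U := Over.mk (Over.homMk (U.left.fromSpecResidueField u) rfl :
    Over.mk (U.left.fromSpecResidueField u ≫ U.hom) ⟶ U)
  have h1 := fiso_pullback φ h𝒴 A.hom ⟨x.obj A, x.w_obj A⟩
    ⟨x.obj (Over.mk (𝟙 U)), x.w_obj _⟩ (x.map (toId U A)) (isHomLift_map_over U x (toId U A))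
    ⟨y.obj A, y.w_obj A⟩ ⟨y.obj (Over.mk (𝟙 U)), y.w_obj _⟩ (y.map (toId U A))
    (isHomLift_map_over U y (toId U A)) hxy
  let p : AlgSt.FPt 𝒳 :=
    { K := ↥(U.left.residueField u)
      str := U.left.fromSpecResidueField u ≫ U.hom
      obj := x.obj A
      lies := x.w_obj A }
  exact ptMap_eq φ p ⟨y.obj A, y.w_obj A⟩ h1

end Groth.Agent.Helper2.IsoNatLib
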