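import Mathlib
import Groth.Agent.Lib.Helper2.IsoNat.Points

/-!
# Quasi-compactness is detected by the presheaf of isomorphism classes (helper2)
-/

set_option autoImplicit false
open CategoryTheory CategoryTheory.Functor CategoryTheory.Limits AlgebraicGeometry Opposite

universe u

namespace Groth.Agent.Helper2.IsoNatLib

open Groth.Agent.Helper2 Groth.Agent.Helper2.FibCatLib Groth.Agent.Helper2.AlgStLib.Pts

variable {S : Scheme.{u}} {𝒳 𝒴 : AlgSt.Cat S} (φ : IsoNat.FIso 𝒳 𝒴)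

/-- A chart of `𝒴` corresponding to a chart of `𝒳` under an isomorphism of presheaves of
isomorphism classes. -/
theorem exists_chart_of_fIso (h𝒴 : FibCat.IsFibGrpd 𝒴.p) {U : Over S}
    (x : FibCat.overCat U ⥤ᵇ 𝒳) :
    ∃ y : FibCat.overCat U ⥤ᵇ 𝒴, φ.toEquiv U (IsoNat.objCls x) = IsoNat.objCls y := by
  obtain ⟨B, hB⟩ := exists_rep (φ.toEquiv U (IsoNat.objCls x))
  haveI := isFibered_of_isFibGrpd 𝒴.p h𝒴
  obtain ⟨e, he⟩ := yonedaFunctor_obj_id_iso B.2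
  refine ⟨yonedaFunctor B.2, ?_⟩
  rw [← hB]
  exact (cls_eq_of_hom h𝒴 (a := ⟨_, _⟩) (b := B) e.hom he).symm

include φ in
/-- **`S15472`.** -/
theorem isQuasiCompact_of_fIso (h𝒳 : AlgSt.IsAlgStack Scheme.fppfPrecoverage 𝒳)
    (h𝒴 : AlgSt.IsAlgStack Scheme.fppfPrecoverage 𝒴) (hq : AlgSt.IsQuasiCompact 𝒳) :
    AlgSt.IsQuasiCompact 𝒴 := by
  obtain ⟨U, x, hU, -, hx2⟩ := hq
  obtain ⟨y, hxy⟩ := exists_chart_of_fIso φ h𝒴.isStack.1 x
  have hsurj : Function.Surjective (AlgSt.Points.ofChart y) := by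
    intro q
    obtain ⟨p, rfl⟩ := ptsMap_surjective φ q
    obtain ⟨u, rfl⟩ := surjective_ofChart h𝒳.isStack.1 x hx2 p
    exact ⟨u, (ptsMap_ofChart φ h𝒴.isStack.1 x y hxy u).symm⟩
  haveI : IsAffine U.left := hU
  haveI : CompactSpace (AlgSt.Points 𝒴) := hsurj.compactSpace (continuous_ofChart h𝒴 y)
  exact isQuasiCompact_of_compactSpace h𝒴

end Groth.Agent.Helper2.IsoNatLib
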