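import Mathlib
import Groth.Agent.Lib.Helper2.IsoNat.QC

/-!
# An isomorphism of presheaves of isomorphism classes induces a homeomorphism on points
(helper2)
-/

set_option autoImplicit false
open CategoryTheory CategoryTheory.Functor CategoryTheory.Limits AlgebraicGeometry Opposite

universe u

namespace Groth.Agent.Helper2.IsoNatLib

open Groth.Agent.Helper2 Groth.Agent.Helper2.FibCatLib Groth.Agent.Helper2.AlgStLib.Pts

variable {S : Scheme.{u}} {𝒳 𝒴 𝒳' 𝒴' : AlgSt.Cat S}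

/-- The inverse of an isomorphism of presheaves of isomorphism classes of categories fibred in
groupoids. -/
noncomputable def fIsoSymm (h𝒳 : FibCat.IsFibGrpd 𝒳.p) (h𝒴 : FibCat.IsFibGrpd 𝒴.p)
    (φ : IsoNat.FIso 𝒳 𝒴) : IsoNat.FIso 𝒴 𝒳 where
  toEquiv T := (φ.toEquiv T).symm
  natural := by
    intro T' T g y' y b hb
    obtain ⟨x, hx⟩ := exists_rep ((φ.toEquiv T).symm (IsoNat.cls y))
    obtain ⟨x'₀, a, ha⟩ := IsFibGrpd.exists_lift_of_eq 𝒳.p h𝒳 x.2 g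
    have hx' : 𝒳.p.obj x'₀ = T' := IsHomLift.domain_eq 𝒳.p g a
    have hxy : φ.toEquiv T (IsoNat.cls x) = IsoNat.cls y := by
      rw [hx]
      exact Equiv.apply_symm_apply _ _
    have h1 := fiso_pullback φ h𝒴 g ⟨x'₀, hx'⟩ x a ha y' y b hb hxy
    refine ⟨⟨x'₀, hx'⟩, x, a, ha, ?_, hx.symm⟩
    rw [← h1]
    exact Equiv.symm_apply_apply _ _

theorem ptsMap_fIsoSymm (h𝒳 : FibCat.IsFibGrpd 𝒳.p) (h𝒴 : FibCat.IsFibGrpd 𝒴.p)
    (φ : IsoNat.FIso 𝒳 𝒴) (x : AlgSt.Points 𝒳) :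
    ptsMap (fIsoSymm h𝒳 h𝒴 φ) (ptsMap φ x) = x := by
  obtain ⟨p, rfl⟩ := AlgSt.Points.mk_surjective x
  obtain ⟨B, hB⟩ := exists_rep (φ.toEquiv (Over.mk p.str)
    (IsoNat.cls (⟨p.obj, p.lies⟩ : 𝒳.p.Fiber (Over.mk p.str))))
  rw [ptsMap_mk, ptMap_eq φ p B hB.symm, ptsMap_mk,
    ptMap_eq (fIsoSymm h𝒳 h𝒴 φ) (fpt p.str B) ⟨p.obj, p.lies⟩ ?_]
  · rfl
  · change (φ.toEquiv (Over.mk p.str)).symm (IsoNat.cls B) = _
    rw [hB]
    exact Equiv.symm_apply_apply _ _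

theorem ptsMap_fIsoSymm' (h𝒳 : FibCat.IsFibGrpd 𝒳.p) (h𝒴 : FibCat.IsFibGrpd 𝒴.p)
    (φ : IsoNat.FIso 𝒳 𝒴) (y : AlgSt.Points 𝒴) :
    ptsMap φ (ptsMap (fIsoSymm h𝒳 h𝒴 φ) y) = y := by
  obtain ⟨x, rfl⟩ := ptsMap_surjective φ y
  rw [ptsMap_fIsoSymm]

/-- The induced map on points is continuous. -/
theorem continuous_ptsMap (h𝒴 : AlgSt.IsAlgStack Scheme.fppfPrecoverage 𝒴)
    (φ : IsoNat.FIso 𝒳 𝒴) : Continuous (ptsMap φ) := by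
  refine continuous_def.2 fun W hW U x _ => ?_
  obtain ⟨y, hxy⟩ := exists_chart_of_fIso φ h𝒴.isStack.1 x
  have : AlgSt.Points.ofChart x ⁻¹' (ptsMap φ ⁻¹' W) = AlgSt.Points.ofChart y ⁻¹' W := by
    ext u
    change ptsMap φ (AlgSt.Points.ofChart x u) ∈ W ↔ _
    rw [ptsMap_ofChart φ h𝒴.isStack.1 x y hxy u]
    rfl
  rw [this]
  exact hW.preimage (continuous_ofChart h𝒴 y)

/-- Compatibility of the induced maps on points with a commuting square. -/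
theorem ptsMap_comm (f : 𝒳 ⥤ᵇ 𝒴) (f' : 𝒳' ⥤ᵇ 𝒴') (φ : IsoNat.FIsoSq f f')
    (x : AlgSt.Points 𝒳) :
    ptsMap φ.tgt (AlgSt.Points.map f x) = AlgSt.Points.map f' (ptsMap φ.src x) := by
  obtain ⟨p, rfl⟩ := AlgSt.Points.mk_surjective x
  obtain ⟨A', hA'⟩ := exists_rep (φ.src.toEquiv (Over.mk p.str)
    (IsoNat.cls (⟨p.obj, p.lies⟩ : 𝒳.p.Fiber (Over.mk p.str))))
  have hcomm := φ.comm (Over.mk p.str) (IsoNat.cls (⟨p.obj, p.lies⟩ : 𝒳.p.Fiber (Over.mk p.str)))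
  rw [← hA', mapCls_cls, mapCls_cls] at hcomm
  rw [AlgSt.Points.map_mk, ptsMap_mk, ptsMap_mk, ptMap_eq φ.src p A' hA'.symm,
    AlgSt.Points.map_mk,
    ptMap_eq φ.tgt (p.map f) ⟨f'.obj A'.1, (f'.w_obj A'.1).trans A'.2⟩ hcomm]
  rfl

end Groth.Agent.Helper2.IsoNatLib
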