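import Mathlib
import Groth.Agent.Lib.Helper2.IsoNat.Homeo
import Groth.Agent.Lib.Helper2.AlgSt.Substack.QCOpen

/-!
# Quasi-compactness of morphisms is detected by the presheaf of isomorphism classes (helper2)
-/

set_option autoImplicit false
open CategoryTheory CategoryTheory.Functor CategoryTheory.Limits AlgebraicGeometry Opposite

universe u

namespace Groth.Agent.Helper2.IsoNatLib

open Groth.Agent.Helper2 Groth.Agent.Helper2.FibCatLib Groth.Agent.Helper2.AlgStLib.Pts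
open Groth.Agent.Helper2.AlgStLib.Substack

variable {S : Scheme.{u}} {𝒳 𝒴 𝒳' 𝒴' : AlgSt.Cat S}

/-- **`S15480`.** -/
theorem isQuasiCompactMor_of_fIsoSq [QuasiSeparatedSpace ↥S]
    (h𝒳 : AlgSt.IsAlgStack Scheme.fppfPrecoverage 𝒳)
    (h𝒴 : AlgSt.IsAlgStack Scheme.fppfPrecoverage 𝒴)
    (h𝒳' : AlgSt.IsAlgStack Scheme.fppfPrecoverage 𝒳')
    (h𝒴' : AlgSt.IsAlgStack Scheme.fppfPrecoverage 𝒴')
    (h𝒴'd : AlgSt.RepByAlgSpWith (AlgSp.IsSeparatedMor ⊓ AlgSp.IsQuasiCompactMor)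
      (FibCat.diag (FibCat.toSelf 𝒴')))
    (f : 𝒳 ⥤ᵇ 𝒴) (f' : 𝒳' ⥤ᵇ 𝒴') (φ : IsoNat.FIsoSq f f')
    (hf : AlgSt.IsQuasiCompactMor Scheme.fppfPrecoverage f) :
    AlgSt.IsQuasiCompactMor Scheme.fppfPrecoverage f' := by
  refine isQuasiCompactMor_of_forall_ptsIn h𝒳' h𝒴' h𝒴'd f' fun T' hT' hT'c => ?_
  rw [isQuasiCompact_fp_subIncl_ptsIn_iff h𝒳' h𝒴' f' T' hT']
  have hT : IsOpen (ptsMap φ.tgt ⁻¹' T') := hT'.preimage (continuous_ptsMap h𝒴' φ.tgt)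
  have hTc : IsCompact (ptsMap φ.tgt ⁻¹' T') := by
    have : ptsMap φ.tgt ⁻¹' T' =
        ptsMap (fIsoSymm h𝒴.isStack.1 h𝒴'.isStack.1 φ.tgt) '' T' := by
      ext t
      constructor
      · intro ht
        exact ⟨ptsMap φ.tgt t, ht, ptsMap_fIsoSymm _ _ _ t⟩
      · rintro ⟨t', ht', rfl⟩
        change ptsMap φ.tgt (ptsMap _ t') ∈ T'
        rw [ptsMap_fIsoSymm']
        exact ht'
    rw [this]
    exact hT'c.image (continuous_ptsMap h𝒴 _)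
  have h1 : AlgSt.IsQuasiCompact
      (FibCat.fp (AlgSt.subIncl 𝒴 (PtsIn (ptsMap φ.tgt ⁻¹' T'))) f) :=
    hf _ (isOpenSubstack_ptsIn h𝒴 _ hT).2.1 (isQuasiCompact_fullSub_ptsIn h𝒴 _ hT hTc) _
  rw [isQuasiCompact_fp_subIncl_ptsIn_iff h𝒳 h𝒴 f _ hT] at h1
  have : AlgSt.Points.map f' ⁻¹' T' =
      ptsMap φ.src '' (AlgSt.Points.map f ⁻¹' (ptsMap φ.tgt ⁻¹' T')) := by
    ext x'
    constructor
    · intro hx'
      obtain ⟨x, rfl⟩ := ptsMap_surjective φ.src x'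
      refine ⟨x, ?_, rfl⟩
      change ptsMap φ.tgt (AlgSt.Points.map f x) ∈ T'
      rw [ptsMap_comm f f' φ x]
      exact hx'
    · rintro ⟨x, hx, rfl⟩
      change AlgSt.Points.map f' (ptsMap φ.src x) ∈ T'
      rw [← ptsMap_comm f f' φ x]
      exact hx
  rw [this]
  exact h1.image (continuous_ptsMap h𝒳' φ.src)

end Groth.Agent.Helper2.IsoNatLib
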