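import Mathlib
import Groth.Agent.Lib.Helper2.IsoNat.Basic

/-!
# Surjectivity is detected by the presheaf of isomorphism classes (helper2)
-/

set_option autoImplicit false
open CategoryTheory CategoryTheory.Functor CategoryTheory.Limits AlgebraicGeometry Opposite

universe u

namespace Groth.Agent.Helper2.IsoNatLib

open Groth.Agent.Helper2 Groth.Agent.Helper2.AlgStLib.Pts

variable {S : Scheme.{u}} {𝒳 𝒴 𝒳' 𝒴' : AlgSt.Cat S}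

/-- `S15487`. -/
theorem isSurjective_of_fIsoSq (h𝒳 : FibCat.IsFibGrpd 𝒳.p) (h𝒴 : FibCat.IsFibGrpd 𝒴.p)
    (f : 𝒳 ⥤ᵇ 𝒴) (f' : 𝒳' ⥤ᵇ 𝒴') (φ : IsoNat.FIsoSq f f') (hf : AlgSt.IsSurjective f) :
    AlgSt.IsSurjective f' := by
  intro q'
  obtain ⟨p', rfl⟩ := AlgSt.Points.mk_surjective q'
  let T : Over S := Over.mk p'.str
  let Y' : 𝒴'.p.Fiber T := ⟨p'.obj, p'.lies⟩
  obtain ⟨Y, hY⟩ := exists_rep ((φ.tgt.toEquiv T).symm (IsoNat.cls Y'))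
  have hY' : φ.tgt.toEquiv T (IsoNat.cls Y) = IsoNat.cls Y' := by
    rw [hY]
    exact Equiv.apply_symm_apply _ _
  obtain ⟨w, hw⟩ := hf (AlgSt.Points.mk (fpt p'.str Y))
  obtain ⟨px, rfl⟩ := AlgSt.Points.mk_surjective w
  rw [AlgSt.Points.map_mk, mk_eq_mk_iff h𝒴] at hw
  obtain ⟨r, α, β, -⟩ := hw
  obtain ⟨xM, hxM, -, hcls⟩ := exists_pullback_of_hom_map h𝒳 h𝒴 f px.obj px.lies r.obj r.lies α
  let XM : 𝒳.p.Fiber (Over.mk r.str) := ⟨xM, hxM⟩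
  obtain ⟨X'M, hX'M⟩ := exists_rep (φ.src.toEquiv (Over.mk r.str) (IsoNat.cls XM))
  have hcomm := φ.comm (Over.mk r.str) (IsoNat.cls XM)
  rw [← hX'M, mapCls_cls, mapCls_cls] at hcomm
  obtain ⟨g₂, hg₂⟩ := exists_base β r.lies Y.2
  obtain ⟨w', w, b, hb, hw', hw⟩ := φ.tgt.natural g₂ ⟨r.obj, r.lies⟩ Y β hg₂
  refine ⟨AlgSt.Points.mk (fpt r.str X'M), ?_⟩
  rw [AlgSt.Points.map_mk]
  have e1 : IsoNat.cls (⟨f'.obj X'M.1, (f'.w_obj X'M.1).trans X'M.2⟩ :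
      𝒴'.p.Fiber (Over.mk r.str)) = IsoNat.cls w' := by
    rw [← hcomm, ← hw', hcls]
  have e2 : IsoNat.cls w = IsoNat.cls Y' := by rw [← hw, hY']
  calc AlgSt.Points.mk ((fpt r.str X'M).map f')
      = AlgSt.Points.mk (fpt r.str ⟨f'.obj X'M.1, (f'.w_obj X'M.1).trans X'M.2⟩) := rfl
    _ = AlgSt.Points.mk (fpt r.str w') := mk_fpt_eq_of_cls_eq r.str e1
    _ = AlgSt.Points.mk (fpt p'.str w) := mk_eq_of_hom (p := fpt r.str w') (q := fpt p'.str w) b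
    _ = AlgSt.Points.mk (fpt p'.str Y') := mk_fpt_eq_of_cls_eq p'.str e2
    _ = AlgSt.Points.mk p' := rfl

end Groth.Agent.Helper2.IsoNatLib
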